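import Cfsg.Agent.J3Local.Orbit.Chk

/-! Part of an orbit check. -/

set_option autoImplicit false
set_option maxRecDepth 100000
set_option Elab.async false

namespace CfsgLib.J3Local.Orbit

open CfsgLib.Coset

theorem B1_6 : belowBlock 10 23256 ok1 6 = true := by decide +kernel
theorem B1_7 : belowBlock 10 23256 ok1 7 = true := by decide +kernel
theorem B1_8 : belowBlock 10 23256 ok1 8 = true := by decide +kernel
theorem B1_9 : belowBlock 10 23256 ok1 9 = true := by decide +kernel
theorem B1_10 : belowBlock 10 23256 ok1 10 = true := by decide +kernel
theorem B1_11 : belowBlock 10 23256 ok1 11 = true := by decide +kernel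

end CfsgLib.J3Local.Orbit
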