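import Cfsg.Agent.J3Local.Orbit.Chk

/-! Part of an orbit check. -/

set_option autoImplicit false
set_option maxRecDepth 100000
set_option Elab.async false

namespace CfsgLib.J3Local.Orbit

open CfsgLib.Coset

theorem B1_12 : belowBlock 10 23256 ok1 12 = true := by decide +kernel
theorem B1_13 : belowBlock 10 23256 ok1 13 = true := by decide +kernel
theorem B1_14 : belowBlock 10 23256 ok1 14 = true := by decide +kernel
theorem B1_15 : belowBlock 10 23256 ok1 15 = true := by decide +kernel
theorem B1_16 : belowBlock 10 23256 ok1 16 = true := by decide +kernel
theorem B1_17 : belowBlock 10 23256 ok1 17 = true := by decide +kernel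

end CfsgLib.J3Local.Orbit
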