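import Cfsg.Agent.J3Local.Orbit.Chk

/-! Part of an orbit check. -/

set_option autoImplicit false
set_option maxRecDepth 100000
set_option Elab.async false

namespace CfsgLib.J3Local.Orbit

open CfsgLib.Coset

theorem B1_24 : belowBlock 10 23256 ok1 24 = true := by decide +kernel
theorem B1_25 : belowBlock 10 23256 ok1 25 = true := by decide +kernel
theorem B1_26 : belowBlock 10 23256 ok1 26 = true := by decide +kernel
theorem B1_27 : belowBlock 10 23256 ok1 27 = true := by decide +kernel
theorem B1_28 : belowBlock 10 23256 ok1 28 = true := by decide +kernel
theorem B1_29 : belowBlock 10 23256 ok1 29 = true := by decide +kernel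

end CfsgLib.J3Local.Orbit
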