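import Cfsg.Agent.J3Local.Orbit.Chk

/-! Part of an orbit check. -/

set_option autoImplicit false
set_option maxRecDepth 100000
set_option Elab.async false

namespace CfsgLib.J3Local.Orbit

open CfsgLib.Coset

theorem B1_30 : belowBlock 10 23256 ok1 30 = true := by decide +kernel
theorem B1_31 : belowBlock 10 23256 ok1 31 = true := by decide +kernel

end CfsgLib.J3Local.Orbit
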