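import Cfsg.Agent.J3Local.Orbit.Chk

/-! Part of an orbit check. -/

set_option autoImplicit false
set_option maxRecDepth 100000
set_option Elab.async false

namespace CfsgLib.J3Local.Orbit

open CfsgLib.Coset

theorem B2_0 : belowBlock 10 43605 ok2 0 = true := by decide +kernel
theorem B2_1 : belowBlock 10 43605 ok2 1 = true := by decide +kernel
theorem B2_2 : belowBlock 10 43605 ok2 2 = true := by decide +kernel
theorem B2_3 : belowBlock 10 43605 ok2 3 = true := by decide +kernel
theorem B2_4 : belowBlock 10 43605 ok2 4 = true := by decide +kernel
theorem B2_5 : belowBlock 10 43605 ok2 5 = true := by decide +kernel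
theorem B2_6 : belowBlock 10 43605 ok2 6 = true := by decide +kernel
theorem B2_7 : belowBlock 10 43605 ok2 7 = true := by decide +kernel
theorem B2_8 : belowBlock 10 43605 ok2 8 = true := by decide +kernel
theorem B2_9 : belowBlock 10 43605 ok2 9 = true := by decide +kernel
theorem B2_10 : belowBlock 10 43605 ok2 10 = true := by decide +kernel

end CfsgLib.J3Local.Orbit
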