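import Cfsg.Agent.J3Local.Orbit.Chk

/-! Part of an orbit check. -/

set_option autoImplicit false
set_option maxRecDepth 100000
set_option Elab.async false

namespace CfsgLib.J3Local.Orbit

open CfsgLib.Coset

theorem B2_11 : belowBlock 10 43605 ok2 11 = true := by decide +kernel
theorem B2_12 : belowBlock 10 43605 ok2 12 = true := by decide +kernel
theorem B2_13 : belowBlock 10 43605 ok2 13 = true := by decide +kernel
theorem B2_14 : belowBlock 10 43605 ok2 14 = true := by decide +kernel
theorem B2_15 : belowBlock 10 43605 ok2 15 = true := by decide +kernel
theorem B2_16 : belowBlock 10 43605 ok2 16 = true := by decide +kernel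
theorem B2_17 : belowBlock 10 43605 ok2 17 = true := by decide +kernel
theorem B2_18 : belowBlock 10 43605 ok2 18 = true := by decide +kernel
theorem B2_19 : belowBlock 10 43605 ok2 19 = true := by decide +kernel
theorem B2_20 : belowBlock 10 43605 ok2 20 = true := by decide +kernel
theorem B2_21 : belowBlock 10 43605 ok2 21 = true := by decide +kernel

end CfsgLib.J3Local.Orbit
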