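import Cfsg.Agent.J3Local.Orbit.Chk

/-! Part of an orbit check. -/

set_option autoImplicit false
set_option maxRecDepth 100000
set_option Elab.async false

namespace CfsgLib.J3Local.Orbit

open CfsgLib.Coset

theorem B2_22 : belowBlock 10 43605 ok2 22 = true := by decide +kernel
theorem B2_23 : belowBlock 10 43605 ok2 23 = true := by decide +kernel
theorem B2_24 : belowBlock 10 43605 ok2 24 = true := by decide +kernel
theorem B2_25 : belowBlock 10 43605 ok2 25 = true := by decide +kernel
theorem B2_26 : belowBlock 10 43605 ok2 26 = true := by decide +kernel
theorem B2_27 : belowBlock 10 43605 ok2 27 = true := by decide +kernel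
theorem B2_28 : belowBlock 10 43605 ok2 28 = true := by decide +kernel
theorem B2_29 : belowBlock 10 43605 ok2 29 = true := by decide +kernel
theorem B2_30 : belowBlock 10 43605 ok2 30 = true := by decide +kernel
theorem B2_31 : belowBlock 10 43605 ok2 31 = true := by decide +kernel
theorem B2_32 : belowBlock 10 43605 ok2 32 = true := by decide +kernel

end CfsgLib.J3Local.Orbit
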