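import Cfsg.Agent.J3Local.Orbit.Chk

/-! Part of an orbit check. -/

set_option autoImplicit false
set_option maxRecDepth 100000
set_option Elab.async false

namespace CfsgLib.J3Local.Orbit

open CfsgLib.Coset

theorem B2_33 : belowBlock 10 43605 ok2 33 = true := by decide +kernel
theorem B2_34 : belowBlock 10 43605 ok2 34 = true := by decide +kernel
theorem B2_35 : belowBlock 10 43605 ok2 35 = true := by decide +kernel
theorem B2_36 : belowBlock 10 43605 ok2 36 = true := by decide +kernel
theorem B2_37 : belowBlock 10 43605 ok2 37 = true := by decide +kernel
theorem B2_38 : belowBlock 10 43605 ok2 38 = true := by decide +kernel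
theorem B2_39 : belowBlock 10 43605 ok2 39 = true := by decide +kernel
theorem B2_40 : belowBlock 10 43605 ok2 40 = true := by decide +kernel
theorem B2_41 : belowBlock 10 43605 ok2 41 = true := by decide +kernel
theorem B2_42 : belowBlock 10 43605 ok2 42 = true := by decide +kernel
theorem B2_43 : belowBlock 10 43605 ok2 43 = true := by decide +kernel

end CfsgLib.J3Local.Orbit
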