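import Cfsg.Agent.J3Local.Orbit.Chk

/-! Part of an orbit check. -/

set_option autoImplicit false
set_option maxRecDepth 100000
set_option Elab.async false

namespace CfsgLib.J3Local.Orbit

open CfsgLib.Coset

theorem B2_44 : belowBlock 10 43605 ok2 44 = true := by decide +kernel
theorem B2_45 : belowBlock 10 43605 ok2 45 = true := by decide +kernel
theorem B2_46 : belowBlock 10 43605 ok2 46 = true := by decide +kernel
theorem B2_47 : belowBlock 10 43605 ok2 47 = true := by decide +kernel
theorem B2_48 : belowBlock 10 43605 ok2 48 = true := by decide +kernel
theorem B2_49 : belowBlock 10 43605 ok2 49 = true := by decide +kernel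
theorem B2_50 : belowBlock 10 43605 ok2 50 = true := by decide +kernel
theorem B2_51 : belowBlock 10 43605 ok2 51 = true := by decide +kernel
theorem B2_52 : belowBlock 10 43605 ok2 52 = true := by decide +kernel
theorem B2_53 : belowBlock 10 43605 ok2 53 = true := by decide +kernel
theorem B2_54 : belowBlock 10 43605 ok2 54 = true := by decide +kernel

end CfsgLib.J3Local.Orbit
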