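import Cfsg.Agent.J3Local.Orbit.Chk

/-! Part of an orbit check. -/

set_option autoImplicit false
set_option maxRecDepth 100000
set_option Elab.async false

namespace CfsgLib.J3Local.Orbit

open CfsgLib.Coset

theorem B2_55 : belowBlock 10 43605 ok2 55 = true := by decide +kernel
theorem B2_56 : belowBlock 10 43605 ok2 56 = true := by decide +kernel
theorem B2_57 : belowBlock 10 43605 ok2 57 = true := by decide +kernel
theorem B2_58 : belowBlock 10 43605 ok2 58 = true := by decide +kernel
theorem B2_59 : belowBlock 10 43605 ok2 59 = true := by decide +kernel
theorem B2_60 : belowBlock 10 43605 ok2 60 = true := by decide +kernel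
theorem B2_61 : belowBlock 10 43605 ok2 61 = true := by decide +kernel
theorem B2_62 : belowBlock 10 43605 ok2 62 = true := by decide +kernel
theorem B2_63 : belowBlock 10 43605 ok2 63 = true := by decide +kernel

end CfsgLib.J3Local.Orbit
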