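import Cfsg.Agent.J3Local.Orbit.B1Step0
import Cfsg.Agent.J3Local.Orbit.B1Step1
import Cfsg.Agent.J3Local.Orbit.B1Step2
import Cfsg.Agent.J3Local.Orbit.B1Step3
import Cfsg.Agent.J3Local.Orbit.B1Step4
import Cfsg.Agent.J3Local.Orbit.B1Step5
import Cfsg.Agent.J3Local.Orbit.B2Step0
import Cfsg.Agent.J3Local.Orbit.B2Step1
import Cfsg.Agent.J3Local.Orbit.B2Step2
import Cfsg.Agent.J3Local.Orbit.B2Step3
import Cfsg.Agent.J3Local.Orbit.B2Step4
import Cfsg.Agent.J3Local.Orbit.B2Step5
import Mathlib.Tactic.IntervalCases

/-! The assembled orbit checks. -/

set_option autoImplicit false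
set_option maxRecDepth 100000

namespace CfsgLib.J3Local.Orbit

open CfsgLib.Coset

theorem B1_all : allBelow 15 23256 ok1 = true :=
  allBelow_of_blocks (d := 10) (j := 5) (by decide +kernel) fun b hb => by
    have : b < 32 := hb
    interval_cases b
    · exact B1_0
    · exact B1_1
    · exact B1_2
    · exact B1_3
    · exact B1_4
    · exact B1_5
    · exact B1_6
    · exact B1_7
    · exact B1_8
    · exact B1_9
    · exact B1_10
    · exact B1_11
    · exact B1_12
    · exact B1_13
    · exact B1_14
    · exact B1_15
    · exact B1_16
    · exact B1_17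
    · exact B1_18
    · exact B1_19
    · exact B1_20
    · exact B1_21
    · exact B1_22
    · exact B1_23
    · exact B1_24
    · exact B1_25
    · exact B1_26
    · exact B1_27
    · exact B1_28
    · exact B1_29
    · exact B1_30
    · exact B1_31

theorem B2_all : allBelow 16 43605 ok2 = true :=
  allBelow_of_blocks (d := 10) (j := 6) (by decide +kernel) fun b hb => by
    have : b < 64 := hb
    interval_cases b
    · exact B2_0
    · exact B2_1
    · exact B2_2
    · exact B2_3
    · exact B2_4
    · exact B2_5
    · exact B2_6
    · exact B2_7
    · exact B2_8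
    · exact B2_9
    · exact B2_10
    · exact B2_11
    · exact B2_12
    · exact B2_13
    · exact B2_14
    · exact B2_15
    · exact B2_16
    · exact B2_17
    · exact B2_18
    · exact B2_19
    · exact B2_20
    · exact B2_21
    · exact B2_22
    · exact B2_23
    · exact B2_24
    · exact B2_25
    · exact B2_26
    · exact B2_27
    · exact B2_28
    · exact B2_29
    · exact B2_30
    · exact B2_31
    · exact B2_32
    · exact B2_33
    · exact B2_34
    · exact B2_35
    · exact B2_36
    · exact B2_37
    · exact B2_38
    · exact B2_39
    · exact B2_40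
    · exact B2_41
    · exact B2_42
    · exact B2_43
    · exact B2_44
    · exact B2_45
    · exact B2_46
    · exact B2_47
    · exact B2_48
    · exact B2_49
    · exact B2_50
    · exact B2_51
    · exact B2_52
    · exact B2_53
    · exact B2_54
    · exact B2_55
    · exact B2_56
    · exact B2_57
    · exact B2_58
    · exact B2_59
    · exact B2_60
    · exact B2_61
    · exact B2_62
    · exact B2_63

end CfsgLib.J3Local.Orbit
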