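import Cfsg.Agent.J3Local.Orbit.Defs
import Cfsg.Agent.J3Local.Orbit.Data1
import Cfsg.Agent.J3Local.Orbit.Data2

/-! The checks on the two orbits of lines. -/

set_option autoImplicit false
set_option maxRecDepth 100000

namespace CfsgLib.J3Local.Orbit

open CfsgLib.Coset

/-- Evaluate a number first. -/
noncomputable def force {α : Type} (n : Nat) (f : Nat → α) : α :=
  Nat.rec (motive := fun _ => α) (f 0) (fun p _ => f (Nat.succ p)) n

theorem force_eq {α : Type} (n : Nat) (f : Nat → α) : force n f = f n := by cases n <;> rfl

/-- A code of the first orbit. -/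
noncomputable def code1 (i : Nat) : Nat := Nat.land (Code1 i) 16777215

/-- A code of the second orbit. -/
noncomputable def code2 (i : Nat) : Nat := Nat.land (Code2 i) 16777215

/-- An edge of the first orbit. -/
noncomputable def edgeOK (i l : Nat) : Bool :=
  force (field (Edge1 i) l) fun v => force (Nat.shiftRight v 2) fun j => force (Nat.land v 3) fun k =>
    Nat.blt j 23256 && !Nat.beq k 0 &&
      Nat.beq (applyT (colU l) (code1 i)) (applyT (colS k) (code1 j))

/-- A tree edge. -/
noncomputable def treeOK (code : Nat → Nat) (Par : Nat → Nat) (i : Nat) : Bool :=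
  Nat.beq i 0 || force (Par i) fun v =>
    force (field v 0) fun p => force (field v 1) fun l => force (field v 2) fun k =>
      Nat.blt p i && Nat.blt l 4 && !Nat.beq k 0 && Nat.blt k 4 &&
        force (applyT (colU l) (code p)) fun c => Nat.beq (applyT (colS k) c) (code i)

/-- The order is strictly increasing. -/
noncomputable def ordOK (code : Nat → Nat) (Ord : Nat → Nat) (n i : Nat) : Bool :=
  force (Nat.land (Ord i) 16777215) fun a =>
    Nat.blt a n && (Nat.beq (Nat.add i 1) n ||
      force (Nat.land (Ord (Nat.add i 1)) 16777215) fun b => Nat.blt (code a) (code b))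

/-- The check at a point of the first orbit. -/
noncomputable def ok1 (i : Nat) : Bool :=
  normC (code1 i) && treeOK code1 Par1 i && ordOK code1 Ord1 23256 i &&
    edgeOK i 0 && edgeOK i 1 && edgeOK i 2 && edgeOK i 3

/-- The check at a point of the second orbit. -/
noncomputable def ok2 (i : Nat) : Bool :=
  normC (code2 i) && isoC (code2 i) && treeOK code2 Par2 i && ordOK code2 Ord2 43605 i

theorem sorted_inj {code Ord : Nat → Nat} {n : Nat} (h : ∀ i, i < n → ordOK code Ord n i = true)
    {i k : Nat} (hi : i < n) (hk : k < n) (e : code i = code k) : i = k := by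
  have spec : ∀ a, a < n → Nat.land (Ord a) 16777215 < n ∧
      (a + 1 < n → code (Nat.land (Ord a) 16777215) < code (Nat.land (Ord (a + 1)) 16777215)) := by
    intro a ha
    have h' := h a ha
    simp only [ordOK, force_eq, Bool.and_eq_true, Bool.or_eq_true] at h'
    refine ⟨Nat.le_of_ble_eq_true h'.1, fun ha' => ?_⟩
    rcases h'.2 with h2 | h2
    · exact absurd (Nat.eq_of_beq_eq_true h2) (show Nat.add a 1 ≠ n from Nat.ne_of_lt ha')
    · exact Nat.le_of_ble_eq_true h2
  let f : Fin n → Fin n := fun a => ⟨Nat.land (Ord a.val) 16777215, (spec a.val a.isLt).1⟩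
  have mono : StrictMono fun a : Fin n => code (f a).val := by
    intro a b hab
    have main : ∀ d x, x + d + 1 < n → code (Nat.land (Ord x) 16777215) <
        code (Nat.land (Ord (x + d + 1)) 16777215) := by
      intro d
      induction d with
      | zero => intro x hx; exact (spec x (by omega)).2 (by omega)
      | succ d ih =>
        intro x hx
        exact (ih x (by omega)).trans ((spec (x + d + 1) (by omega)).2 (by omega))
    have h' : a.val < b.val := hab
    have := main (b.val - a.val - 1) a.val (by omega)
    rwa [show a.val + (b.val - a.val - 1) + 1 = b.val by omega] at this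
  have fs : Function.Surjective f := Finite.surjective_of_injective fun a b hab =>
    mono.injective (congrArg (fun y : Fin n => code y.val) hab)
  obtain ⟨a, ha⟩ := fs ⟨i, hi⟩
  obtain ⟨b, hb⟩ := fs ⟨k, hk⟩
  have hab : a = b := mono.injective (by
    show code (f a).val = code (f b).val
    rw [ha, hb]; exact e)
  exact congrArg Fin.val (ha.symm.trans ((congrArg f hab).trans hb))

end CfsgLib.J3Local.Orbit
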