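import Cfsg.Agent.Coset.Prim

set_option autoImplicit false
set_option maxRecDepth 100000

/-! Packed orbit data of the triple cover on lines. -/

namespace CfsgLib.J3Local.Orbit

noncomputable def ColTLeaf (i : Nat) : Nat := (0x31400023c0001280000000000eb01009603007d02000000024ee301c9920387710000000272e301e19203937100000000d46d00bcdb0068b6000000003ec3002982001741000000001532003f21002a1300000000030d00020b00010600000000bed80069b400d76c00000003dae702b59e016f79000000030f7d020aeb0105960000000208f40104ac030c5800000001ddbf03bb6a0266d500000001c813038432024c2100000003b42b026c1601d83d00000001fe7b03a9e602579d00000002ec5c0198f80374a4000000038ff3024aa201c5510000000358f102f4a301ac5200000002f67701adee035b9900000002c212018131034323000000018dbc034b6802c6d400000000585d00f4fb00aca6000000038639024d2701cb1e00000003eefe0299a9017757000000008f7f004aea00c59500000002d29c01b1780363e400000003b3f40262ac01d15800000001c8c403848c024c48000000033d25022b1f01163a000000007e3000e920009710000000032768021ed40139bc00000003c2df0281ba014365000000031d89023b470126ce00000002a1d20153b103f2630000000020e700109e003079000000 : Nat)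
noncomputable def ColT (i : Nat) : Nat := Nat.shiftRight (ColTLeaf (Nat.shiftRight i 8)) (Nat.mul 24 (Nat.land i 255))

end CfsgLib.J3Local.Orbit
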