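import Cfsg.Agent.J3Local.Orbit.Col
import Cfsg.Agent.Coset.G24.Field
import Cfsg.Agent.Coset.J3.UnitaryData
import Cfsg.Agent.Coset.Blocks
import Mathlib.Data.Matrix.Mul
import Mathlib.Algebra.BigOperators.Fin

/-! Packed vectors of dimension 9 over four elements. -/

set_option autoImplicit false
set_option maxRecDepth 100000

namespace CfsgLib.J3Local.Orbit

open CfsgLib.Coset CfsgLib.Coset.G24 Matrix

/-- The element of a lane. -/
def toF : Nat → F4
  | 0 => .z
  | 1 => .o
  | 2 => .w
  | _ => .v

/-- A lane of a packed vector. -/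
noncomputable def lane (c p : Nat) : Nat := Nat.land (Nat.shiftRight c (Nat.mul 2 p)) 3

/-- Unpack. -/
noncomputable def dec (c : Nat) : Fin 9 → F4 := fun p => toF (lane c p.val)

/-- The exclusive or of finitely many values. -/
noncomputable def xfold (n : Nat) (f : Nat → Nat) : Nat :=
  Nat.rec (motive := fun _ => Nat) 0 (fun k ih => Nat.xor ih (f k)) n

theorem xfold_succ (n : Nat) (f : Nat → Nat) : xfold (n + 1) f = xfold n f ^^^ f n := rfl

theorem lane_eq (c p : Nat) : lane c p = (c >>> (2 * p)) &&& 3 := rfl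

theorem lane_lt (c p : Nat) : lane c p < 4 := by
  rw [lane_eq]
  exact Nat.lt_succ_of_le Nat.and_le_right

theorem lane_xor (a b q : Nat) : lane (a ^^^ b) q = lane a q ^^^ lane b q := by
  rw [lane_eq, lane_eq, lane_eq, Nat.shiftRight_xor_distrib, Nat.and_xor_distrib_right]

theorem lane_xfold (n : Nat) (f : Nat → Nat) (q : Nat) :
    lane (xfold n f) q = xfold n fun p => lane (f p) q := by
  induction n with
  | zero => simp [xfold, lane_eq]
  | succ n ih => rw [xfold_succ, xfold_succ, lane_xor, ih]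

theorem xor_lt_four : ∀ a b : Fin 4, (a.val ^^^ b.val) < 4 := by decide

theorem toF_xor : ∀ a b : Fin 4, toF (a.val ^^^ b.val) = toF a.val + toF b.val := by decide

theorem xfold_lt (n : Nat) (f : Nat → Nat) (h : ∀ p < n, f p < 4) : xfold n f < 4 := by
  induction n with
  | zero => simp [xfold]
  | succ n ih =>
    rw [xfold_succ]
    exact xor_lt_four ⟨_, ih fun p hp => h p (hp.trans n.lt_succ_self)⟩ ⟨_, h n n.lt_succ_self⟩

theorem toF_xfold (n : Nat) (f : Nat → Nat) (h : ∀ p < n, f p < 4) :
    toF (xfold n f) = ∑ p : Fin n, toF (f p.val) := by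
  induction n with
  | zero => simp [xfold]; rfl
  | succ n ih =>
    have h' : ∀ p < n, f p < 4 := fun p hp => h p (hp.trans n.lt_succ_self)
    have e : toF (xfold n f ^^^ f n) = toF (xfold n f) + toF (f n) :=
      toF_xor ⟨_, xfold_lt n f h'⟩ ⟨_, h n n.lt_succ_self⟩
    rw [xfold_succ, e, ih h', Fin.sum_univ_castSucc]
    rfl

/-- Apply a linear map given by column tables. -/
noncomputable def applyT (T : Nat → Nat → Nat) (c : Nat) : Nat :=
  xfold 9 fun p => T p (lane c p)

theorem dec_applyT {T : Nat → Nat → Nat} {M : Matrix (Fin 9) (Fin 9) F4}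
    (h : ∀ p : Fin 9, ∀ x : Fin 4, ∀ q : Fin 9, toF (lane (T p.val x.val) q.val) = M q p * toF x.val)
    (c : Nat) : dec (applyT T c) = M *ᵥ dec c := by
  funext q
  rw [dec, applyT, lane_xfold, toF_xfold _ _ fun p _ => lane_lt _ _]
  show (∑ p : Fin 9, toF (lane (T p.val (lane c p.val)) q.val) : F4) = ∑ p : Fin 9, M q p * dec c p
  refine Finset.sum_congr rfl fun p _ => ?_
  exact h p ⟨lane c p.val, lane_lt _ _⟩ q

/-- The columns of a generator. -/
noncomputable def colU (l p x : Nat) : Nat :=
  Nat.land (ColT (Nat.add (Nat.mul 36 l) (Nat.add (Nat.mul 4 p) x))) 16777215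

/-- Products of lanes. -/
def mulN : Nat → Nat → Nat
  | 0, _ => 0
  | _, 0 => 0
  | 1, y => y
  | x, 1 => x
  | 2, 2 => 3
  | 2, _ => 1
  | _, 2 => 1
  | _, _ => 2

/-- The columns of a scalar. -/
noncomputable def colS (k p x : Nat) : Nat := Nat.shiftLeft (mulN k x) (Nat.mul 2 p)

/-- The matrix of a generator. -/
def genM (l : Fin 4) : Matrix (Fin 9) (Fin 9) F4 :=
  fun i j => ((J3.uRows.getD l.val []).getD i.val []).getD j.val .z

/-- The check of the column tables. -/
noncomputable def colCheck : Bool :=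
  (List.finRange 4).all fun l => (List.finRange 9).all fun p => (List.finRange 4).all fun x =>
    (List.finRange 9).all fun q =>
      decide (toF (lane (colU l.val p.val x.val) q.val) = genM l q p * toF x.val) &&
      decide (toF (lane (colS l.val p.val x.val) q.val) = (if q = p then toF l.val else .z) * toF x.val)

theorem col_check : colCheck = true := by decide +kernel

theorem dec_gen (l : Fin 4) (c : Nat) : dec (applyT (colU l.val) c) = genM l *ᵥ dec c := by
  refine dec_applyT (fun p x q => ?_) c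
  have h := col_check
  simp only [colCheck, List.all_eq_true, List.mem_finRange, true_implies, Bool.and_eq_true,
    decide_eq_true_eq] at h
  exact (h l p x q).1

theorem dec_scalar (k : Fin 4) (c : Nat) : dec (applyT (colS k.val) c) = toF k.val • dec c := by
  rw [dec_applyT (T := colS k.val) (M := Matrix.diagonal fun _ => toF k.val) (fun p x q => ?_) c]
  · funext q
    rw [Matrix.mulVec_diagonal]
    rfl
  · have h := col_check
    simp only [colCheck, List.all_eq_true, List.mem_finRange, true_implies, Bool.and_eq_true,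
      decide_eq_true_eq] at h
    rw [(h k p x q).2, Matrix.diagonal_apply]
    rfl

theorem dec_injective {a b : Nat} (ha : a < 4 ^ 9) (hb : b < 4 ^ 9) (h : dec a = dec b) : a = b := by
  have key : ∀ x y : Fin 4, toF x.val = toF y.val → x = y := by decide
  have hl : ∀ p, p < 9 → lane a p = lane b p := fun p hp =>
    congrArg Fin.val (key ⟨_, lane_lt a p⟩ ⟨_, lane_lt b p⟩ (congrFun h ⟨p, hp⟩))
  have lane_div : ∀ c p, lane c p = c / 4 ^ p % 4 := by
    intro c p
    rw [lane_eq, Nat.shiftRight_eq_div_pow, pow_mul,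
      show (3 : ℕ) = 2 ^ 2 - 1 from rfl, Nat.and_two_pow_sub_one_eq_mod]
    norm_num
  have main : ∀ n, n ≤ 9 → a % 4 ^ n = b % 4 ^ n := by
    intro n
    induction n with
    | zero => intro _; simp [Nat.mod_one]
    | succ n ih =>
      intro hn
      rw [Nat.mod_pow_succ, Nat.mod_pow_succ, ih (by omega), ← lane_div, ← lane_div, hl n (by omega)]
  have := main 9 le_rfl
  rwa [Nat.mod_eq_of_lt ha, Nat.mod_eq_of_lt hb] at this

/-- The sum of the cubes. -/
def cubeSum {n : ℕ} (x : Fin n → F4) : F4 := ∑ i, x i * x i * x i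

/-- The isotropy test of a packed vector. -/
noncomputable def isoC (c : Nat) : Bool :=
  Nat.beq (xfold 9 fun p => cond (Nat.beq (lane c p) 0) 0 1) 0

theorem isoC_spec {c : Nat} (h : isoC c = true) : cubeSum (dec c) = 0 := by
  have hb : ∀ x : Fin 4, toF (cond (Nat.beq x.val 0) 0 1) = toF x.val * toF x.val * toF x.val := by
    decide
  have h0 := Nat.eq_of_beq_eq_true h
  have hlt : ∀ p, p < 9 → (cond (Nat.beq (lane c p) 0) 0 1 : Nat) < 4 := by
    intro p _; cases Nat.beq (lane c p) 0 <;> decide
  have e := toF_xfold 9 (fun p => cond (Nat.beq (lane c p) 0) 0 1) hlt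
  rw [h0] at e
  show (∑ i, dec c i * dec c i * dec c i : F4) = 0
  rw [show (0 : F4) = toF 0 from rfl, e]
  exact Finset.sum_congr rfl fun p _ => (hb ⟨_, lane_lt c p.val⟩).symm

/-- A normalised vector has first non-zero entry one. -/
def Norm1 (x : Fin 9 → F4) : Prop := ∃ p, x p = 1 ∧ ∀ q, q < p → x q = 0

/-- The test for normalised packed vectors. -/
noncomputable def normC (c : Nat) : Bool :=
  Nat.blt c 262144 && (List.range 9).any fun p => Nat.beq (lane c p) 1 &&
    (List.range p).all fun q => Nat.beq (lane c q) 0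

theorem normC_spec {c : Nat} (h : normC c = true) : c < 4 ^ 9 ∧ Norm1 (dec c) := by
  rw [normC, Bool.and_eq_true] at h
  obtain ⟨h1, h2⟩ := h
  obtain ⟨p, hp, hpp⟩ := List.any_eq_true.mp h2
  rw [Bool.and_eq_true] at hpp
  refine ⟨Nat.le_of_ble_eq_true h1, ⟨p, List.mem_range.mp hp⟩, ?_, fun q hq => ?_⟩
  · show toF (lane c p) = 1
    rw [Nat.eq_of_beq_eq_true hpp.1]; rfl
  · show toF (lane c q.val) = 0
    rw [Nat.eq_of_beq_eq_true (List.all_eq_true.mp hpp.2 q.val (List.mem_range.mpr hq))]
    rfl

theorem Norm1.ne_zero {x : Fin 9 → F4} (h : Norm1 x) : x ≠ 0 := by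
  obtain ⟨p, hp, -⟩ := h
  intro h0
  rw [h0] at hp
  exact zero_ne_one hp

theorem Norm1.scalar_eq {x y : Fin 9 → F4} (hx : Norm1 x) (hy : Norm1 y) {a b : F4} (hb : b ≠ 0)
    (ha : a ≠ 0) (h : a • x = b • y) : a = b := by
  obtain ⟨p, hp, hp0⟩ := hx
  obtain ⟨q, hq, hq0⟩ := hy
  rcases lt_trichotomy p q with hlt | he | hgt
  · have h' : a * x p = b * y p := congrFun h p
    rw [hp, hq0 p hlt, mul_one, mul_zero] at h'
    exact absurd h' ha
  · subst he
    have h' : a * x p = b * y p := congrFun h p
    rwa [hp, hq, mul_one, mul_one] at h'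
  · have h' : a * x q = b * y q := congrFun h q
    rw [hp0 q hgt, hq, mul_zero, mul_one] at h'
    exact absurd h'.symm hb

end CfsgLib.J3Local.Orbit
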