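import Cfsg.Agent.J3Local.Orbit.All
import Cfsg.Agent.J3Local.Bridge

/-! The orbits of the triple cover on lines. -/

set_option autoImplicit false
set_option maxRecDepth 100000

namespace CfsgLib.J3Local.Orbit

open Matrix Cfsg.Spor CfsgLib.Coset CfsgLib.Coset.G24 CfsgLib.Coset.J3

theorem genM_eq (l : Fin 4) : genM l = (toGL (fl Lh l.val)).val := by
  have h1 : (genM l : Matrix (Fin 9) (Fin 9) F4) = uMat l := rfl
  rw [h1]
  fin_cases l <;> rfl

theorem toF_ne_zero : ∀ k : Fin 4, k.val ≠ 0 → toF k.val ≠ 0 := by decide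

theorem ok1_spec (i : Fin 23256) : ok1 i.val = true := of_allBelow B1_all i.val i.isLt

theorem ok2_spec (i : Fin 43605) : ok2 i.val = true := of_allBelow B2_all i.val i.isLt

/-- A line representative of the first orbit. -/
noncomputable def v1 (i : Fin 23256) : Fin 9 → F4 := dec (code1 i.val)

/-- A line representative of the second orbit. -/
noncomputable def v2 (i : Fin 43605) : Fin 9 → F4 := dec (code2 i.val)

/-- An element carries one vector to a multiple of another. -/
def Reach (a b : Fin 9 → F4) : Prop :=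
  ∃ h : H3, ∃ c : F4, c ≠ 0 ∧ (toGL h).val *ᵥ a = c • b

theorem reach_refl (a : Fin 9 → F4) : Reach a a := ⟨1, 1, one_ne_zero, by simp⟩

/-- A tree edge gives a step of the orbit. -/
theorem reach_step {code Par : Nat → Nat} {i : Nat} (h : treeOK code Par i = true) (hi : i ≠ 0)
    {a : Fin 9 → F4} (ih : ∀ p < i, Reach a (dec (code p))) : Reach a (dec (code i)) := by
  simp only [treeOK, force_eq, Bool.or_eq_true, Bool.and_eq_true, Bool.not_eq_true'] at h
  rcases h with h | h
  · exact absurd (Nat.eq_of_beq_eq_true h) hi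
  obtain ⟨⟨⟨⟨hp, hl⟩, hk0⟩, hk⟩, he⟩ := h
  obtain ⟨g, c, hc, e⟩ := ih _ (Nat.le_of_ble_eq_true hp)
  set l : Fin 4 := ⟨field (Par i) 1, Nat.le_of_ble_eq_true hl⟩
  set k : Fin 4 := ⟨field (Par i) 2, Nat.le_of_ble_eq_true hk⟩
  have hk' : toF k.val ≠ 0 := toF_ne_zero k fun h0 => by
    rw [show field (Par i) 2 = 0 from h0] at hk0
    simp at hk0
  have e' := congrArg dec (Nat.eq_of_beq_eq_true he)
  rw [show dec (applyT (colS k.val) (applyT (colU l.val) (code (field (Par i) 0)))) = _ from
    dec_scalar k _, dec_gen l, genM_eq] at e'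
  refine ⟨fl Lh l.val * g, c * (toF k.val)⁻¹, mul_ne_zero hc (inv_ne_zero hk'), ?_⟩
  rw [map_mul, Units.val_mul, ← Matrix.mulVec_mulVec, e, Matrix.mulVec_smul, ← e', smul_smul,
    mul_assoc, inv_mul_cancel₀ hk', mul_one]

theorem reach1 : ∀ (i : Nat) (_ : i < 23256), Reach (dec (code1 0)) (dec (code1 i)) := by
  intro i
  induction i using Nat.strong_induction_on with
  | _ i ih =>
    intro hi
    by_cases h0 : i = 0
    · subst h0; exact reach_refl _
    · have h := ok1_spec ⟨i, hi⟩
      simp only [ok1, Bool.and_eq_true] at h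
      exact reach_step h.1.1.1.1.1.2 h0 fun p hp => ih p hp (hp.trans hi)

theorem reach2 : ∀ (i : Nat) (_ : i < 43605), Reach (dec (code2 0)) (dec (code2 i)) := by
  intro i
  induction i using Nat.strong_induction_on with
  | _ i ih =>
    intro hi
    by_cases h0 : i = 0
    · subst h0; exact reach_refl _
    · have h := ok2_spec ⟨i, hi⟩
      simp only [ok2, Bool.and_eq_true] at h
      exact reach_step h.1.2 h0 fun p hp => ih p hp (hp.trans hi)

theorem mul_self_gen {x : H3} (hx : x ∈ Lh) : x * x = 1 := by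
  obtain ⟨l, hl, rfl⟩ := List.getElem_of_mem hx
  have hl4 : l < 4 := hl
  refine toGL_injective (Units.ext ?_)
  rw [map_mul, Units.val_mul, map_one, Units.val_one]
  interval_cases l <;> exact uMat_sq _

/-- The first orbit is closed. -/
theorem closed1 (h : H3) : ∀ i, ∃ j, ∃ c : F4, c ≠ 0 ∧ (toGL h).val *ᵥ v1 i = c • v1 j := by
  have hg : h ∈ Subgroup.closure {x | x ∈ Lh} := closure_Lh ▸ Subgroup.mem_top h
  induction hg using Subgroup.closure_induction with
  | one => exact fun i => ⟨i, 1, one_ne_zero, by simp⟩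
  | mul a b _ _ iha ihb =>
    intro i
    obtain ⟨j, c, hc, e⟩ := ihb i
    obtain ⟨k, d, hd, e'⟩ := iha j
    refine ⟨k, c * d, mul_ne_zero hc hd, ?_⟩
    rw [map_mul, Units.val_mul, ← Matrix.mulVec_mulVec, e, Matrix.mulVec_smul, e', smul_smul]
  | inv a _ iha =>
    have hfix : Function.Surjective fun i => (iha i).choose := by
      refine Finite.surjective_of_injective fun i k e => ?_
      obtain ⟨c, hc, ei⟩ := (iha i).choose_spec
      obtain ⟨d, hd, ek⟩ := (iha k).choose_spec
      change (iha i).choose = (iha k).choose at e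
      rw [← e] at ek
      have e2 : d • v1 i = c • v1 k := by
        have h2 := congrArg (fun y => (toGL a⁻¹).val *ᵥ y)
          (show (toGL a).val *ᵥ (d • v1 i) = (toGL a).val *ᵥ (c • v1 k) by
            rw [Matrix.mulVec_smul, Matrix.mulVec_smul, ei, ek, smul_comm])
        simpa [Matrix.mulVec_mulVec, ← Units.val_mul, ← map_mul] using h2
      have hi := ok1_spec i
      have hk := ok1_spec k
      simp only [ok1, Bool.and_eq_true] at hi hk
      have ni := normC_spec hi.1.1.1.1.1.1
      have nk := normC_spec hk.1.1.1.1.1.1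
      have hcd := ni.2.scalar_eq nk.2 hc hd e2
      subst hcd
      exact Fin.ext (sorted_inj (code := code1) (Ord := Ord1) (fun x hx => (by
        have := ok1_spec ⟨x, hx⟩
        simp only [ok1, Bool.and_eq_true] at this
        exact this.1.1.1.1.2)) i.isLt k.isLt
        (dec_injective ni.1 nk.1 (smul_right_injective _ hd e2)))
    intro j
    obtain ⟨i, rfl⟩ := hfix j
    obtain ⟨c, hc, e⟩ := (iha i).choose_spec
    refine ⟨i, c⁻¹, inv_ne_zero hc, ?_⟩
    have h2 := congrArg (fun y => c⁻¹ • ((toGL a⁻¹).val *ᵥ y)) e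
    simp only [Matrix.mulVec_mulVec, ← Units.val_mul, ← map_mul, inv_mul_cancel, map_one,
      Units.val_one, Matrix.one_mulVec, Matrix.mulVec_smul, smul_smul, inv_mul_cancel₀ hc,
      one_smul] at h2
    exact h2.symm
  | mem a ha =>
    obtain ⟨l, hl, rfl⟩ := List.getElem_of_mem ha
    have hl4 : l < 4 := hl
    intro i
    have h := ok1_spec i
    simp only [ok1, Bool.and_eq_true] at h
    have he : edgeOK i.val l = true := by
      obtain ⟨⟨⟨⟨⟨⟨-, -⟩, -⟩, h0⟩, h1⟩, h2⟩, h3⟩ := h
      interval_cases l <;> assumption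
    simp only [edgeOK, force_eq, Bool.and_eq_true, Bool.not_eq_true'] at he
    obtain ⟨⟨hj, hk0⟩, he⟩ := he
    have hk : Nat.land (field (Edge1 i.val) l) 3 < 4 := Nat.lt_succ_of_le Nat.and_le_right
    have e' := congrArg dec (Nat.eq_of_beq_eq_true he)
    rw [show dec (applyT (colU l) (code1 i.val)) = _ from dec_gen ⟨l, hl4⟩ _, genM_eq,
      show dec (applyT (colS (Nat.land (field (Edge1 i.val) l) 3)) _) = _ from
        dec_scalar ⟨_, hk⟩ _] at e'
    refine ⟨⟨_, Nat.le_of_ble_eq_true hj⟩, _, toF_ne_zero ⟨_, hk⟩ (fun h0 => ?_), ?_⟩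
    · rw [show Nat.land (field (Edge1 i.val) l) 3 = 0 from h0] at hk0
      simp at hk0
    · rw [fl, List.getD_eq_getElem _ _ hl] at e'
      exact e'

/-- The start of the first orbit. -/
theorem v1_zero : v1 ⟨0, by norm_num⟩ = Pi.single (eIx.symm 0) 1 := by
  have h : ∀ q : Fin 9, toF (lane (code1 0) q.val) = if q = eIx.symm 0 then 1 else 0 := by
    decide +kernel
  funext q
  rw [Pi.single_apply]
  exact h q

/-- Non-zero isotropic vectors are counted by a recursion. -/
theorem card_cube (n : ℕ) : ∀ a : F4, a ∈ ({0, 1} : Set F4) →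
    2 * Nat.card {x : Fin n → F4 // cubeSum x = a} + (if a = 0 then 0 else (-2 : ℤ) ^ n * 2) =
      (4 : ℤ) ^ n + (-2) ^ n := by
  induction n with
  | zero =>
    intro a ha
    rcases ha with rfl | rfl
    · rw [show Nat.card {x : Fin 0 → F4 // cubeSum x = 0} = 1 from by
        rw [Nat.card_eq_fintype_card]; decide]
      simp
    · rw [show Nat.card {x : Fin 0 → F4 // cubeSum x = 1} = 0 from by
        rw [Nat.card_eq_fintype_card]; decide]
      simp
  | succ n ih =>
    intro a ha
    have hs : ∀ b : F4, ({x : Fin (n + 1) → F4 // cubeSum x = b}) ≃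
        Σ c : F4, {x : Fin n → F4 // cubeSum x = b + c * c * c} := fun b =>
      { toFun := fun x => ⟨x.1 0, Fin.tail x.1, by
          have h := x.2
          rw [cubeSum, Fin.sum_univ_succ] at h
          show ∑ i, Fin.tail x.1 i * Fin.tail x.1 i * Fin.tail x.1 i = _
          simp only [Fin.tail]
          exact (by decide : ∀ u w b : F4, u + w = b → w = b + u) _ _ _ h⟩
        invFun := fun p => ⟨Fin.cons p.1 p.2.1, by
          rw [cubeSum, Fin.sum_univ_succ]
          simp only [Fin.cons_zero, Fin.cons_succ]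
          rw [show (∑ i : Fin n, p.2.1 i * p.2.1 i * p.2.1 i) = b + p.1 * p.1 * p.1 from p.2.2]
          exact (by decide : ∀ u b : F4, u + (b + u) = b) _ _⟩
        left_inv := fun x => Subtype.ext (Fin.cons_self_tail x.1)
        right_inv := fun p => by
          refine Sigma.subtype_ext ?_ ?_
          · simp
          · simp }
    rw [Nat.card_congr (hs a), Nat.card_sigma,
      show (Finset.univ : Finset F4) = {.z, .o, .w, .v} from by decide]
    rw [Finset.sum_insert (by decide), Finset.sum_insert (by decide), Finset.sum_insert (by decide),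
      Finset.sum_singleton]
    have e0 := ih 0 (Or.inl rfl)
    have e1 := ih 1 (Or.inr rfl)
    simp only [if_true, if_neg (show ¬(1 : F4) = 0 from one_ne_zero), add_zero] at e0 e1
    rcases ha with rfl | rfl
    · rw [show (0 : F4) + F4.z * F4.z * F4.z = 0 from by decide,
        show (0 : F4) + F4.o * F4.o * F4.o = 1 from by decide,
        show (0 : F4) + F4.w * F4.w * F4.w = 1 from by decide,
        show (0 : F4) + F4.v * F4.v * F4.v = 1 from by decide]
      push_cast
      rw [if_pos rfl, pow_succ, pow_succ]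
      linarith
    · rw [show (1 : F4) + F4.z * F4.z * F4.z = 1 from by decide,
        show (1 : F4) + F4.o * F4.o * F4.o = 0 from by decide,
        show (1 : F4) + F4.w * F4.w * F4.w = 0 from by decide,
        show (1 : F4) + F4.v * F4.v * F4.v = 0 from by decide]
      push_cast
      rw [pow_succ, pow_succ]
      linarith

/-- The non-zero isotropic vectors. -/
abbrev Iso9 : Type := {x : Fin 9 → F4 // x ≠ 0 ∧ cubeSum x = 0}

theorem card_Iso9 : Nat.card Iso9 = 130815 := by
  have h := card_cube 9 0 (Or.inl rfl)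
  simp only [if_true, add_zero] at h
  have h' : Nat.card {x : Fin 9 → F4 // cubeSum x = 0} = 130816 := by
    have : (2 : ℤ) * (Nat.card {x : Fin 9 → F4 // cubeSum x = 0} : ℤ) = 261632 := by
      rw [h]; norm_num
    omega
  have e : {x : Fin 9 → F4 // cubeSum x = 0} ≃ Option Iso9 :=
    { toFun := fun x => if hx : x.1 = 0 then none else some ⟨x.1, hx, x.2⟩
      invFun := fun o => o.elim ⟨0, by simp [cubeSum]⟩ fun y => ⟨y.1, y.2.2⟩
      left_inv := fun x => by
        by_cases hx : x.1 = 0
        · simp only [dif_pos hx, Option.elim_none]; exact Subtype.ext hx.symm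
        · simp only [dif_neg hx, Option.elim_some]
      right_inv := fun o => by
        cases o with
        | none => simp
        | some y => simp [y.2.1] }
  rw [Nat.card_congr e, Finite.card_option] at h'
  omega

theorem smul_cube (c : F4) (hc : c ≠ 0) (x : Fin 9 → F4) : cubeSum (c • x) = cubeSum x := by
  have h3 : ∀ c : F4, c ≠ 0 → c * c * c = 1 := by decide
  refine Finset.sum_congr rfl fun i _ => ?_
  show c * x i * (c * x i) * (c * x i) = x i * x i * x i
  calc c * x i * (c * x i) * (c * x i) = (c * c * c) * (x i * x i * x i) := by ring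
    _ = _ := by rw [h3 c hc, one_mul]

theorem v2_norm (i : Fin 43605) : code2 i.val < 4 ^ 9 ∧ Norm1 (v2 i) ∧ cubeSum (v2 i) = 0 := by
  have h := ok2_spec i
  simp only [ok2, Bool.and_eq_true] at h
  exact ⟨(normC_spec h.1.1.1).1, (normC_spec h.1.1.1).2, isoC_spec h.1.1.2⟩

theorem isotropic_cover {x : Fin 9 → F4} (hx : x ≠ 0) (hc : cubeSum x = 0) :
    ∃ i, ∃ c : F4, c ≠ 0 ∧ x = c • v2 i := by
  let f : Fin 43605 × {c : F4 // c ≠ 0} → Iso9 := fun p =>
    ⟨p.2.1 • v2 p.1, smul_ne_zero p.2.2 (v2_norm p.1).2.1.ne_zero,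
      by rw [smul_cube _ p.2.2]; exact (v2_norm p.1).2.2⟩
  have hi : Function.Injective f := by
    rintro ⟨i, a, ha⟩ ⟨k, b, hb⟩ e
    have e' : a • v2 i = b • v2 k := congrArg Subtype.val e
    have hab := (v2_norm i).2.1.scalar_eq (v2_norm k).2.1 hb ha e'
    subst hab
    have hik : i = k := Fin.ext (sorted_inj (code := code2) (Ord := Ord2) (fun x hx => (by
      have := ok2_spec ⟨x, hx⟩
      simp only [ok2, Bool.and_eq_true] at this
      exact this.2)) i.isLt k.isLt
      (dec_injective (v2_norm i).1 (v2_norm k).1 (smul_right_injective _ ha e')))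
    subst hik
    rfl
  have hb : Function.Bijective f := (Nat.bijective_iff_injective_and_card f).mpr ⟨hi, by
    rw [card_Iso9, Nat.card_prod, Nat.card_fin,
      show Nat.card {c : F4 // c ≠ 0} = 3 from by rw [Nat.card_eq_fintype_card]; decide]⟩
  obtain ⟨⟨i, c, hc0⟩, e⟩ := hb.2 ⟨x, hx, hc⟩
  exact ⟨i, c, hc0, (congrArg Subtype.val e).symm⟩

theorem transitive2 {x y : Fin 9 → F4} (hx : x ≠ 0) (hy : y ≠ 0) (cx : cubeSum x = 0)
    (cy : cubeSum y = 0) : Reach x y := by
  obtain ⟨i, a, ha, rfl⟩ := isotropic_cover hx cx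
  obtain ⟨k, b, hb, rfl⟩ := isotropic_cover hy cy
  obtain ⟨g, c, hc, eg⟩ := reach2 i.val i.isLt
  obtain ⟨h, d, hd, eh⟩ := reach2 k.val k.isLt
  refine ⟨h * g⁻¹, a * (c⁻¹ * (d * b⁻¹)),
    mul_ne_zero ha (mul_ne_zero (inv_ne_zero hc) (mul_ne_zero hd (inv_ne_zero hb))), ?_⟩
  have e : (toGL g⁻¹).val *ᵥ v2 i = c⁻¹ • dec (code2 0) := by
    have h2 := congrArg (fun z => c⁻¹ • ((toGL g⁻¹).val *ᵥ z)) eg
    simp only [Matrix.mulVec_mulVec, ← Units.val_mul, ← map_mul, inv_mul_cancel, map_one,
      Units.val_one, Matrix.one_mulVec, Matrix.mulVec_smul, smul_smul, inv_mul_cancel₀ hc,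
      one_smul] at h2
    exact h2.symm
  rw [Matrix.mulVec_smul, map_mul, Units.val_mul, ← Matrix.mulVec_mulVec, e, Matrix.mulVec_smul, eh,
    smul_smul, smul_smul, smul_smul]
  show _ • v2 k = _
  congr 1
  field_simp

section

variable {F : Type} [Field F] (hF : Nat.card F = 4) {ω : F} (hω : ω ^ 2 + ω + 1 = 0)
include hF hω

/-- Move a model vector to the given field. -/
noncomputable def lift (x : Fin 9 → F4) : F9 → F := fun z => iota hF hω (x (eIx.symm z))

theorem iota_surjective : Function.Surjective (iota hF hω) := by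
  have : Finite F := Nat.finite_of_card_ne_zero (by omega)
  exact (((Nat.bijective_iff_injective_and_card _).mpr ⟨(iota hF hω).injective, by
    rw [hF, Nat.card_eq_fintype_card, F4.card_eq]⟩)).2

theorem lift_mulVec (h : H3) (x : Fin 9 → F4) :
    (phi hF hω h).val *ᵥ lift hF hω x = lift hF hω ((toGL h).val *ᵥ x) := by
  rw [phi_val]
  funext z
  rw [lift, Matrix.submatrix_mulVec_equiv]
  show _ = iota hF hω (((toGL h).val *ᵥ x) (eIx.symm z))
  rw [RingHom.map_mulVec]
  simp [lift, Function.comp_def]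

theorem lift_smul (c : F4) (x : Fin 9 → F4) :
    lift hF hω (c • x) = iota hF hω c • lift hF hω x := by
  funext z; simp [lift]

theorem lift_injective : Function.Injective (lift hF hω) := by
  intro x y h
  funext i
  have h' := congrFun h (eIx i)
  simp only [lift, Equiv.symm_apply_apply] at h'
  exact (iota hF hω).injective h'

theorem lift_surjective : Function.Surjective (lift hF hω) := by
  intro v
  choose x hx using fun i => iota_surjective hF hω (v (eIx i))
  exact ⟨x, funext fun z => by simp [lift, hx]⟩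

theorem lift_single : lift hF hω (Pi.single (eIx.symm 0) 1) = Pi.single (0 : F9) (1 : F) := by
  funext z
  by_cases hz : z = 0
  · subst hz; simp [lift]
  · have : eIx.symm z ≠ eIx.symm 0 := fun h => hz (eIx.symm.injective h)
    simp [lift, Pi.single_eq_of_ne hz, Pi.single_eq_of_ne this]

theorem first_orbit :
    {L : Submodule F (F9 → F) | ∃ g ∈ threeJ3 F ω,
      L = F ∙ ((g : Matrix F9 F9 F) *ᵥ (Pi.single (0 : F9) (1 : F) : F9 → F))}.ncard = 23256 := by
  have hne : ∀ c : F4, c ≠ 0 → IsUnit (iota hF hω c) := fun c hc =>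
    isUnit_iff_ne_zero.mpr ((map_ne_zero _).mpr hc)
  have hset : {L : Submodule F (F9 → F) | ∃ g ∈ threeJ3 F ω,
      L = F ∙ ((g : Matrix F9 F9 F) *ᵥ (Pi.single (0 : F9) (1 : F) : F9 → F))} =
      Set.range fun i : Fin 23256 => F ∙ lift hF hω (v1 i) := by
    ext L
    constructor
    · rintro ⟨g, hg, rfl⟩
      rw [← range_phi hF hω] at hg
      obtain ⟨h, rfl⟩ := hg
      obtain ⟨j, c, hc, e⟩ := closed1 h ⟨0, by norm_num⟩
      refine ⟨j, ?_⟩
      show F ∙ lift hF hω (v1 j) = _
      rw [← lift_single hF hω, lift_mulVec, ← v1_zero, e, lift_smul,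
        Submodule.span_singleton_smul_eq (hne c hc)]
    · rintro ⟨i, rfl⟩
      obtain ⟨h, c, hc, e⟩ := reach1 i.val i.isLt
      refine ⟨phi hF hω h, range_phi hF hω ▸ ⟨h, rfl⟩, ?_⟩
      show F ∙ lift hF hω (v1 i) = _
      rw [← lift_single hF hω, lift_mulVec, ← v1_zero,
        show (toGL h).val *ᵥ v1 ⟨0, by norm_num⟩ = c • v1 i from e, lift_smul,
        Submodule.span_singleton_smul_eq (hne c hc)]
  rw [hset, ← Nat.card_coe_set_eq, Nat.card_range_of_injective, Nat.card_fin]
  intro i k e
  have e' : F ∙ lift hF hω (v1 i) = F ∙ lift hF hω (v1 k) := e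
  obtain ⟨a, ha⟩ := Submodule.mem_span_singleton.mp
    (e' ▸ Submodule.mem_span_singleton_self (lift hF hω (v1 i)) :
      lift hF hω (v1 i) ∈ F ∙ lift hF hω (v1 k))
  obtain ⟨b, rfl⟩ := iota_surjective hF hω a
  rw [← lift_smul] at ha
  have e2 : (1 : F4) • v1 i = b • v1 k := by rw [one_smul]; exact (lift_injective hF hω ha).symm
  have hi := ok1_spec i
  have hk := ok1_spec k
  simp only [ok1, Bool.and_eq_true] at hi hk
  have ni := normC_spec hi.1.1.1.1.1.1
  have nk := normC_spec hk.1.1.1.1.1.1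
  have hb : b ≠ 0 := fun h0 => by
    rw [h0, zero_smul, one_smul] at e2
    exact ni.2.ne_zero e2
  have hb1 : (1 : F4) = b := ni.2.scalar_eq nk.2 hb one_ne_zero e2
  rw [← hb1, one_smul, one_smul] at e2
  exact Fin.ext (sorted_inj (code := code1) (Ord := Ord1) (fun x hx => (by
    have := ok1_spec ⟨x, hx⟩
    simp only [ok1, Bool.and_eq_true] at this
    exact this.1.1.1.1.2)) i.isLt k.isLt (dec_injective ni.1 nk.1 e2))

theorem second_orbit (v w : F9 → F) (hv : v ≠ 0) (hw : w ≠ 0) (cv : ∑ z, (v z) ^ 3 = 0)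
    (cw : ∑ z, (w z) ^ 3 = 0) :
    ∃ g ∈ threeJ3 F ω, ∃ c : F, c ≠ 0 ∧ (g : Matrix F9 F9 F) *ᵥ v = c • w := by
  obtain ⟨x, rfl⟩ := lift_surjective hF hω v
  obtain ⟨y, rfl⟩ := lift_surjective hF hω w
  have hz : lift hF hω (0 : Fin 9 → F4) = 0 := by funext z; simp [lift]
  have hcube : ∀ u : Fin 9 → F4, (∑ z, (lift hF hω u z) ^ 3 = 0) → cubeSum u = 0 := by
    intro u hu
    apply (iota hF hω).injective
    rw [map_zero, ← hu, cubeSum, map_sum, ← Equiv.sum_comp eIx]
    refine Finset.sum_congr rfl fun i _ => ?_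
    simp [lift, pow_succ]
  obtain ⟨h, c, hc, e⟩ := transitive2 (fun h0 => hv (by rw [h0, hz])) (fun h0 => hw (by rw [h0, hz]))
    (hcube x cv) (hcube y cw)
  exact ⟨phi hF hω h, range_phi hF hω ▸ ⟨h, rfl⟩, iota hF hω c, (map_ne_zero _).mpr hc,
    by rw [lift_mulVec, e, lift_smul]⟩

end

end CfsgLib.J3Local.Orbit
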